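import Mathlib.RingTheory.Flat.Tensor
import Mathlib.RingTheory.Flat.Stability
import Mathlib.RingTheory.Flat.Localization
import Mathlib.RingTheory.Localization.BaseChange
import Mathlib.LinearAlgebra.TensorProduct.Quotient
import Mathlib.LinearAlgebra.TensorProduct.RightExactness

/-!
# Flatness from the quotient and the localization by a regular element
-/

universe u

open TensorProduct

set_option backward.isDefEq.respectTransparency false
set_option linter.style.haveILetI false

namespace Groth.Agent.FlatLG20

variable {A : Type u} [CommRing A] (a : A)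

/-- The kernel of `P → (A ⧸ Ideal.span ({a} : Set A)) ⊗ P` consists of multiples of `a`. -/
theorem exact_mk {P : Type u} [AddCommGroup P] [Module A P] :
    Function.Exact (a • LinearMap.id : P →ₗ[A] P) (TensorProduct.mk A (A ⧸ Ideal.span ({a} : Set A)) P 1) := by
  intro y
  constructor
  · intro h
    have h' := congrArg (TensorProduct.quotTensorEquivQuotSMul P (Ideal.span ({a} : Set A))) h
    rw [map_zero, TensorProduct.mk_apply, TensorProduct.quotTensorEquivQuotSMul_mk_one_tmul,
      Submodule.Quotient.mk_eq_zero, Submodule.ideal_span_singleton_smul,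
      Submodule.mem_smul_pointwise_iff_exists] at h'
    obtain ⟨z, -, hz⟩ := h'
    exact ⟨z, hz⟩
  · rintro ⟨z, rfl⟩
    show (1 : (A ⧸ Ideal.span ({a} : Set A))) ⊗ₜ[A] (a • z) = 0
    rw [← TensorProduct.smul_tmul, Algebra.smul_def, mul_one]
    have : algebraMap A (A ⧸ Ideal.span ({a} : Set A)) a = 0 := Ideal.Quotient.eq_zero_iff_mem.mpr (Ideal.mem_span_singleton_self a)
    rw [this, TensorProduct.zero_tmul]

theorem mk_surjective {P : Type u} [AddCommGroup P] [Module A P] :
    Function.Surjective (TensorProduct.mk A (A ⧸ Ideal.span ({a} : Set A)) P 1) := by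
  intro z
  obtain ⟨y, hy⟩ := Submodule.Quotient.mk_surjective _
    (TensorProduct.quotTensorEquivQuotSMul P (Ideal.span ({a} : Set A)) z)
  refine ⟨y, (TensorProduct.quotTensorEquivQuotSMul P (Ideal.span ({a} : Set A))).injective ?_⟩
  rw [TensorProduct.mk_apply, TensorProduct.quotTensorEquivQuotSMul_mk_one_tmul, hy]

variable {M : Type u} [AddCommGroup M] [Module A M]

/-- Diagram chase for `isSMulRegular_tensor`. -/
theorem isSMulRegular_tensor_aux [Module.Flat (A ⧸ Ideal.span ({a} : Set A)) ((A ⧸ Ideal.span ({a} : Set A)) ⊗[A] M)]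
    {K F N : Type u} [AddCommGroup K] [Module A K] [AddCommGroup F] [Module A F] [AddCommGroup N] [Module A N]
    (ι : K →ₗ[A] F) (π : F →ₗ[A] N) (hι : Function.Injective ι) (hex : Function.Exact ι π)
    (hπ : Function.Surjective π) (hF : IsSMulRegular (M ⊗[A] F) a) (hN : IsSMulRegular N a)
    (z : M ⊗[A] N) (hz : a • z = 0) : z = 0 := by
  -- the base change of `ι` to `(A ⧸ Ideal.span ({a} : Set A))` is injective
  have hbc : Function.Injective (ι.baseChange (A ⧸ Ideal.span ({a} : Set A))) := by
    rw [injective_iff_map_eq_zero]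
    intro x hx
    obtain ⟨k, rfl⟩ := mk_surjective a x
    obtain ⟨f, hf⟩ := (exact_mk a (ι k)).mp hx
    have hf' : a • f = ι k := hf
    obtain ⟨f', rfl⟩ := (hex f).mp (hN (by
      show a • π f = a • 0
      rw [← map_smul, hf', hex.apply_apply_eq_zero, smul_zero]))
    refine (exact_mk a k).mpr ⟨f', hι ?_⟩
    show ι (a • f') = ι k
    rw [map_smul, hf']
  -- hence so is its tensor product with `(A ⧸ Ideal.span ({a} : Set A)) ⊗ M` over `A`
  let eK := AlgebraTensorModule.cancelBaseChange A (A ⧸ Ideal.span ({a} : Set A)) (A ⧸ Ideal.span ({a} : Set A)) ((A ⧸ Ideal.span ({a} : Set A)) ⊗[A] M) K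
  let eF := AlgebraTensorModule.cancelBaseChange A (A ⧸ Ideal.span ({a} : Set A)) (A ⧸ Ideal.span ({a} : Set A)) ((A ⧸ Ideal.span ({a} : Set A)) ⊗[A] M) F
  have hQ : Function.Injective (LinearMap.lTensor ((A ⧸ Ideal.span ({a} : Set A)) ⊗[A] M) ι) := by
    have h1 : Function.Injective (LinearMap.lTensor ((A ⧸ Ideal.span ({a} : Set A)) ⊗[A] M) (ι.baseChange (A ⧸ Ideal.span ({a} : Set A)))) :=
      Module.Flat.lTensor_preserves_injective_linearMap _ hbc
    have hnat : ∀ t, eF (LinearMap.lTensor ((A ⧸ Ideal.span ({a} : Set A)) ⊗[A] M) (ι.baseChange (A ⧸ Ideal.span ({a} : Set A))) t) =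
        LinearMap.lTensor ((A ⧸ Ideal.span ({a} : Set A)) ⊗[A] M) ι (eK t) := by
      intro t
      induction t using TensorProduct.induction_on with
      | zero => simp
      | tmul x y =>
        induction y using TensorProduct.induction_on with
        | zero => simp
        | tmul q k => simp [eK, eF]
        | add y y' hy hy' => simp only [tmul_add, map_add, hy, hy']
      | add x x' hx hx' => simp only [map_add, hx, hx']
    intro x y hxy
    obtain ⟨x', rfl⟩ := eK.surjective x
    obtain ⟨y', rfl⟩ := eK.surjective y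
    rw [← hnat, ← hnat] at hxy
    rw [h1 (eF.injective hxy)]
  -- chase
  obtain ⟨w, rfl⟩ := LinearMap.lTensor_surjective M hπ z
  have h2 := lTensor_exact M hex hπ
  obtain ⟨k, hk⟩ := (h2 (a • w)).mp (by rw [map_smul]; exact hz)
  have h3 : LinearMap.rTensor K (TensorProduct.mk A (A ⧸ Ideal.span ({a} : Set A)) M 1) k = 0 := by
    apply hQ
    rw [map_zero, ← LinearMap.comp_apply, LinearMap.lTensor_comp_rTensor, ← LinearMap.rTensor_comp_lTensor,
      LinearMap.comp_apply, hk]
    have : LinearMap.rTensor F (TensorProduct.mk A (A ⧸ Ideal.span ({a} : Set A)) M 1) (a • w) = 0 := by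
      refine (rTensor_exact F (exact_mk a) (mk_surjective a) (a • w)).mpr ⟨w, ?_⟩
      rw [LinearMap.rTensor_smul, LinearMap.rTensor_id, LinearMap.smul_apply, LinearMap.id_apply]
    exact this
  obtain ⟨k', hk'⟩ := (rTensor_exact K (exact_mk a) (mk_surjective a) k).mp h3
  rw [LinearMap.rTensor_smul, LinearMap.rTensor_id, LinearMap.smul_apply, LinearMap.id_apply] at hk'
  have hw : w = LinearMap.lTensor M ι k' := hF (by show a • w = a • _; rw [← map_smul, hk', hk])
  rw [hw]
  exact h2.apply_apply_eq_zero k'


/-- If `M/aM` is flat over `A/a` and `a` is regular on `M`, then `a` is regular on `M ⊗ N` for every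
module `N` on which it is regular. -/
theorem isSMulRegular_tensor (hM : IsSMulRegular M a) [Module.Flat (A ⧸ Ideal.span ({a} : Set A)) ((A ⧸ Ideal.span ({a} : Set A)) ⊗[A] M)]
    {N : Type u} [AddCommGroup N] [Module A N] (hN : IsSMulRegular N a) :
    ∀ z : M ⊗[A] N, a • z = 0 → z = 0 := by
  classical
  intro z hz
  classical
  let π : (N →₀ A) →ₗ[A] N := Finsupp.linearCombination A id
  have hπ : Function.Surjective π := fun n => ⟨Finsupp.single n 1, by simp [π]⟩
  letI : AddCommGroup ↥(LinearMap.ker π) := Submodule.addCommGroup _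
  letI : Module A ↥(LinearMap.ker π) := Submodule.module _
  let ι : ↥(LinearMap.ker π) →ₗ[A] (N →₀ A) :=
    { toFun := Subtype.val, map_add' := fun _ _ => rfl, map_smul' := fun _ _ => rfl }
  have hex : Function.Exact ι π := fun y => ⟨fun h => ⟨⟨y, h⟩, rfl⟩, by rintro ⟨x, rfl⟩; exact x.2⟩
  refine isSMulRegular_tensor_aux a ι π Subtype.val_injective hex hπ ?_ hN z hz
  intro x y hxy
  apply (TensorProduct.finsuppScalarRight A A M N).injective
  refine Finsupp.ext fun i => hM ?_
  have := congrArg (fun t => TensorProduct.finsuppScalarRight A A M N t i) hxy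
  simpa using this

/-- A module is flat if it is so modulo a regular element and after inverting it. -/
theorem flat_of_regular (hA : IsSMulRegular A a) (hM : IsSMulRegular M a)
    [Module.Flat (A ⧸ Ideal.span ({a} : Set A)) ((A ⧸ Ideal.span ({a} : Set A)) ⊗[A] M)]
    [Module.Flat (Localization.Away a) (LocalizedModule (Submonoid.powers a) M)] :
    Module.Flat A M := by
  rw [Module.Flat.iff_lTensor_injective']
  intro I
  rw [injective_iff_map_eq_zero]
  intro x hx
  haveI : Module.Flat A (Localization.Away a) := IsLocalization.flat _ (Submonoid.powers a)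
  haveI : Module.Flat A (LocalizedModule (Submonoid.powers a) M) :=
    Module.Flat.trans A (Localization.Away a) _
  let g := LocalizedModule.mkLinearMap (Submonoid.powers a) M
  have h0 : LinearMap.rTensor I g x = 0 := by
    apply Module.Flat.lTensor_preserves_injective_linearMap (M := LocalizedModule (Submonoid.powers a) M)
      I.subtype I.injective_subtype
    rw [map_zero, ← LinearMap.comp_apply, LinearMap.lTensor_comp_rTensor, ← LinearMap.rTensor_comp_lTensor,
      LinearMap.comp_apply, hx, map_zero]
  haveI : IsLocalizedModule (Submonoid.powers a) (AlgebraTensorModule.rTensor A I g) :=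
    inferInstance
  obtain ⟨⟨c, n, rfl⟩, hc⟩ :=
    (IsLocalizedModule.eq_zero_iff (Submonoid.powers a) (AlgebraTensorModule.rTensor A I g)).mp h0
  have hI : IsSMulRegular I a := fun u v h => Subtype.ext (hA (congrArg Subtype.val h))
  have key := isSMulRegular_tensor a hM hI
  have hc' : a ^ n • x = 0 := hc
  clear hc
  induction n generalizing x with
  | zero => simpa using hc'
  | succ n ih =>
    rw [pow_succ', mul_smul] at hc'
    exact ih x hx h0 (key _ hc')

end Groth.Agent.FlatLG20
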